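import Cfsg.Agent.Lib.Grp.TranspModule.Classes
import Cfsg.Prelude.Def_Transfer

/-! The action on an elementary abelian radical satisfies the rules. -/

set_option autoImplicit false
set_option linter.unusedSectionVars false

namespace Cfsg.Agent.Grp.TranspModule

open Cfsg Cfsg.Agent.Spor
open Cfsg.Agent.Spor.ThreeTrans (braid)
open scoped IsMulCommutative

variable {G : Type*} [Group G]

/-- The hypotheses on the radical. -/
structure Rad (V : Subgroup G) : Prop where
  ab : ∀ a ∈ V, ∀ b ∈ V, Commute a b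
  sq : ∀ a ∈ V, a * a = 1
  self : ∀ g : G, (∀ v ∈ V, g * v = v * g) → g ∈ V
  core : pCore 2 (G) = V
  center : Subgroup.center G = ⊥

variable (V : Subgroup G) [V.Normal] [IsMulCommutative V]

/-- Conjugation as an additive endomorphism of the radical. -/
def rhoG : G →* AddMonoid.End (Additive V) where
  toFun g := MonoidHom.toAdditive (MulAut.conjNormal g : MulAut V).toMonoidHom
  map_one' := by
    ext x
    show (1 : G) * _ * (1 : G)⁻¹ = _
    simp
  map_mul' g h := by
    ext x
    show g * h * _ * (g * h)⁻¹ = g * (h * _ * h⁻¹) * g⁻¹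
    simp [mul_assoc]

theorem rhoG_apply (g : G) (x : Additive V) :
    (((rhoG V g x).toMul : V) : G) = g * (x.toMul : V) * g⁻¹ := rfl

variable {V}

theorem rhoG_ker (hV : Rad V) : V ≤ (rhoG V).ker := by
  intro v hv
  refine MonoidHom.mem_ker.mpr ?_
  ext x
  rw [rhoG_apply]
  show v * _ * v⁻¹ = ((x.toMul : V) : G)
  rw [(hV.ab v hv _ x.toMul.2).eq, mul_inv_cancel_right]

/-- The action of the quotient. -/
def rho (hV : Rad V) : G ⧸ V →* AddMonoid.End (Additive V) := QuotientGroup.lift V (rhoG V) (rhoG_ker hV)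

theorem rho_apply (hV : Rad V) (g : G) (x : Additive V) :
    (((rho hV (g : G ⧸ V) x).toMul : V) : G) = g * (x.toMul : V) * g⁻¹ := rfl

theorem rho_injective (hV : Rad V) : Function.Injective (rho hV) := by
  rw [injective_iff_map_eq_one]
  intro q hq
  obtain ⟨g, rfl⟩ := QuotientGroup.mk_surjective q
  refine (QuotientGroup.eq_one_iff g).mpr (hV.self g fun v hv => ?_)
  have h1 := rho_apply hV g (Additive.ofMul ⟨v, hv⟩)
  rw [hq] at h1
  have h2 : v = g * v * g⁻¹ := h1
  conv_rhs => rw [h2, inv_mul_cancel_right]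

theorem two (x : Additive V) (hV : Rad V) : x + x = 0 :=
  Additive.toMul.injective (Subtype.ext (hV.sq _ x.toMul.2))

theorem endTwo (hV : Rad V) (f : AddMonoid.End (Additive V)) : f + f = 0 := by
  ext x
  exact congrArg (fun y => ((Additive.toMul y : V) : G)) (two (f x) hV)

theorem xo_apply (hV : Rad V) (g : G) (x : Additive V) :
    (((xo (rho hV) (g : G ⧸ V) x).toMul : V) : G) = g * (x.toMul : V) * g⁻¹ * (x.toMul : V) := rfl

/-- The coordinates of a translate. -/
def vec (v : G) (hv : v ∈ V) : Additive V := Additive.ofMul ⟨v, hv⟩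

theorem ext_val {x y : Additive V} (h : ((x.toMul : V) : G) = ((y.toMul : V) : G)) : x = y :=
  Additive.toMul.injective (Subtype.ext h)

theorem core_quot (hV : Rad V) : pCore 2 (G ⧸ V) = ⊥ := by
  refine sSup_eq_bot.mpr fun K ⟨hKn, hKp⟩ => ?_
  have hp : IsPGroup 2 V := fun v => ⟨1, Subtype.ext (by
    show (v : G) ^ 2 ^ 1 = 1
    rw [pow_one, pow_two]; exact hV.sq _ v.2)⟩
  have hker : IsPGroup 2 (QuotientGroup.mk' V).ker := by rwa [QuotientGroup.ker_mk']
  have hmem : K.comap (QuotientGroup.mk' V) ∈ {N : Subgroup G | N.Normal ∧ IsPGroup 2 N} :=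
    ⟨inferInstance, hKp.comap_of_ker_isPGroup _ hker⟩
  have hle : K.comap (QuotientGroup.mk' V) ≤ V := (le_sSup hmem).trans hV.core.le
  rw [eq_bot_iff]
  intro q hq
  obtain ⟨g, rfl⟩ := QuotientGroup.mk'_surjective V q
  exact (QuotientGroup.eq_one_iff g).mpr (hle hq)

variable [Finite G] {D : Set G}

theorem not_mem (hV : Rad V) (hD : IsThreeTranspositionClass D) {d : G} (hd : d ∈ D) : d ∉ V := by
  intro hdV
  have hsub : D ⊆ V := by
    intro x hx
    obtain ⟨g, rfl⟩ := ThreeTrans.transitive hD hd hx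
    exact Subgroup.Normal.conj_mem inferInstance d hdV g
  have htop : ∀ g : G, g ∈ V := fun g =>
    (Subgroup.closure_le V).mpr hsub (hD.2.2 ▸ Subgroup.mem_top g)
  have hc : d ∈ Subgroup.center G := Subgroup.mem_center_iff.mpr fun g => (hV.ab g (htop g) d hdV).eq
  rw [hV.center, Subgroup.mem_bot] at hc
  exact ThreeTrans.ne_one hD.1 hd hc

theorem cls_image (hV : Rad V) (hD : IsThreeTranspositionClass D) :
    IsThreeTranspositionClass ((QuotientGroup.mk : G → G ⧸ V) '' D) := by
  refine ⟨⟨?_, ?_⟩, ?_, ?_⟩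
  · rintro _ ⟨d, hd, rfl⟩
    refine orderOf_eq_prime ?_ fun h => not_mem hV hD hd ((QuotientGroup.eq_one_iff d).mp h)
    rw [← QuotientGroup.mk_pow, pow_two, ThreeTrans.mul_self hD.1 hd, QuotientGroup.mk_one]
  · rintro _ ⟨a, ha, rfl⟩ _ ⟨b, hb, rfl⟩
    rcases hD.1.2 a ha b hb with k | k
    · left; rw [← QuotientGroup.mk_mul, ← QuotientGroup.mk_pow, k, QuotientGroup.mk_one]
    · right; rw [← QuotientGroup.mk_mul, ← QuotientGroup.mk_pow, k, QuotientGroup.mk_one]
  · obtain ⟨d0, hd0, hc⟩ := hD.2.1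
    refine ⟨(d0 : G ⧸ V), ⟨d0, hd0, rfl⟩, Set.ext fun y => ⟨?_, ?_⟩⟩
    · rintro ⟨d, hd, rfl⟩
      rw [hc] at hd
      obtain ⟨g, rfl⟩ := isConj_iff.1 (show IsConj d0 d from hd)
      exact isConj_iff.2 ⟨(g : G ⧸ V), rfl⟩
    · intro hy
      obtain ⟨y', rfl⟩ := isConj_iff.1 (show IsConj (d0 : G ⧸ V) y from hy)
      obtain ⟨g, rfl⟩ := QuotientGroup.mk_surjective y'
      refine ⟨g * d0 * g⁻¹, ?_, rfl⟩
      rw [hc]
      exact isConj_iff.2 ⟨g, rfl⟩
  · show Subgroup.closure ((QuotientGroup.mk' V) '' D) = ⊤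
    rw [← MonoidHom.map_closure, hD.2.2, Subgroup.map_top_of_surjective _ (QuotientGroup.mk'_surjective V)]

/-- Members with commuting images commute. -/
theorem commute_of_image (hV : Rad V) (hD : IsThreeTranspositionClass D) {a b : G} (ha : a ∈ D) (hb : b ∈ D)
    (h : Commute (a : G ⧸ V) (b : G ⧸ V)) : Commute a b := by
  by_contra hc
  have h3 := ThreeTrans.pow_three_of_not_commute hD ha hb hc
  have hq2 : ((a : G ⧸ V) * b) ^ 2 = 1 := by
    rw [h.mul_pow, ← QuotientGroup.mk_pow, ← QuotientGroup.mk_pow, pow_two, pow_two, ThreeTrans.mul_self hD.1 ha,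
      ThreeTrans.mul_self hD.1 hb, QuotientGroup.mk_one, one_mul]
  have hq3 : ((a : G ⧸ V) * b) ^ 3 = 1 := by
    rw [← QuotientGroup.mk_mul, ← QuotientGroup.mk_pow, h3, QuotientGroup.mk_one]
  rw [pow_succ, hq2, one_mul, ← QuotientGroup.mk_mul, QuotientGroup.eq_one_iff] at hq3
  refine hc (ThreeTrans.commute_of_sq hD ha hb ?_)
  rw [pow_two]
  exact hV.sq _ hq3

/-- A translate of a member. -/
theorem shift_eq (hD : IsThreeTranspositionClass D) (hV : Rad V) {d w : G} (hd : d ∈ D) (hw : w ∈ V) :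
    (d * w * d⁻¹ * w) * d ∈ D := by
  have hdi := ThreeTrans.inv_eq hD.1 hd
  have h := ThreeTrans.conj_mem hD w hd
  have e1 : (d * w * d⁻¹ * w) * d = w * d * w⁻¹ := by
    have hm : d * w * d⁻¹ ∈ V := Subgroup.Normal.conj_mem inferInstance w hw d
    rw [(hV.ab _ hm w hw).eq, inv_eq_of_mul_eq_one_right (hV.sq w hw), hdi]
    simp [mul_assoc, ThreeTrans.mul_self hD.1 hd]
  rw [e1]; exact h

theorem rules (hV : Rad V) (hD : IsThreeTranspositionClass D) :
    Rules (rho hV) ((QuotientGroup.mk : G → G ⧸ V) '' D) := by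
  have hC := cls_image hV hD
  refine ⟨hC, ?_, endTwo hV, ?_, ?_, ?_⟩
  · intro a ha b hb hab
    have h := ThreeTrans.mul_mem_core_two hC ⟨ha, hb, hab⟩
    rw [core_quot hV, Subgroup.mem_bot, mul_eq_one_iff_eq_inv,
      ThreeTrans.inv_eq hC.1 hb] at h
    exact h
  · rintro _ ⟨d, hd, rfl⟩ h0
    have h1 : rho hV (d : G ⧸ V) = 1 := by
      have h2 := eq_neg_of_add_eq_zero_left h0
      rw [h2]
      exact neg_eq_of_add_eq_zero_left (endTwo hV 1)
    exact not_mem hV hD hd ((QuotientGroup.eq_one_iff d).mp (rho_injective hV (by rw [h1, map_one])))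
  · rintro _ ⟨a, ha, rfl⟩ _ ⟨d, hd, rfl⟩ hne hc
    ext x
    set w : G := ((x.toMul : V) : G)
    have hw : w ∈ V := x.toMul.2
    set s : G := d * w * d⁻¹ * w with hs
    have hd' := shift_eq hD hV hd hw
    have hsV : s ∈ V := mul_mem (Subgroup.Normal.conj_mem inferInstance w hw d) hw
    have hc1 : Commute a d := commute_of_image hV hD ha hd hc
    have hc2 : Commute a (s * d) := commute_of_image hV hD ha hd' (by
      rw [QuotientGroup.mk_mul, (QuotientGroup.eq_one_iff s).mpr hsV, one_mul]; exact hc)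
    have hc3 : Commute a s := by
      have := hc2.mul_right hc1.inv_right
      rwa [mul_inv_cancel_right] at this
    show a * s * a⁻¹ * s = 1
    rw [hc3.eq, mul_inv_cancel_right, hV.sq s hsV]
  · rintro _ ⟨d, hd, rfl⟩ _ ⟨a, ha, rfl⟩ hnc
    ext x
    set w : G := ((x.toMul : V) : G)
    have hw : w ∈ V := x.toMul.2
    set s : G := d * w * d⁻¹ * w with hs
    have hd' := shift_eq hD hV hd hw
    have hsV : s ∈ V := mul_mem (Subgroup.Normal.conj_mem inferInstance w hw d) hw
    have hn1 : ¬ Commute a d := fun k => hnc (k.symm.map (QuotientGroup.mk' V))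
    have hn2 : ¬ Commute a (s * d) := fun k => hnc (by
      have := k.symm.map (QuotientGroup.mk' V)
      simpa [(QuotientGroup.eq_one_iff s).mpr hsV] using this)
    have b1 := braid hD.1 ha hd hn1
    have b2 := braid hD.1 ha hd' hn2
    have haa := ThreeTrans.mul_self hD.1 ha
    have hdd := ThreeTrans.mul_self hD.1 hd
    rw [ThreeTrans.inv_eq hD.1 hd] at hs
    have hds : d * s * d = s := by
      rw [hs]
      calc d * (d * w * d * w) * d = (d * d) * (w * (d * w * d)) := by simp only [mul_assoc]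
        _ = d * w * d * w := by
          rw [hdd, one_mul]
          exact (hV.ab w hw _ (by
            have h9 := Subgroup.Normal.conj_mem (inferInstance : V.Normal) w hw d
            rwa [ThreeTrans.inv_eq hD.1 hd] at h9)).eq
    have hconjV : ∀ g v : G, g ∈ D → v ∈ V → g * v * g ∈ V := fun g v hg hv => by
      have h9 := Subgroup.Normal.conj_mem (inferInstance : V.Normal) v hv g
      rwa [ThreeTrans.inv_eq hD.1 hg] at h9
    set u : G := a * s * a with hu
    have huV : u ∈ V := hconjV a s ha hsV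
    -- the relation
    have e1 : u = s * (d * u * d) := by
      apply mul_right_cancel (b := a * d * a)
      calc u * (a * d * a) = a * (s * d) * a := by
            simp only [hu, mul_assoc, ThreeTrans.mul_self_mul hD.1 ha]
        _ = s * d * a * (s * d) := b2
        _ = s * (d * u * d) * (d * a * d) := by
            simp only [hu, mul_assoc, ThreeTrans.mul_self_mul hD.1 hd, ThreeTrans.mul_self_mul hD.1 ha]
        _ = s * (d * u * d) * (a * d * a) := by rw [b1]
    show d * (a * s * a⁻¹ * s) * d⁻¹ * (a * s * a⁻¹ * s) = s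
    rw [ThreeTrans.inv_eq hD.1 ha, ThreeTrans.inv_eq hD.1 hd, ← hu]
    calc d * (u * s) * d * (u * s) = (d * u * d) * (d * s * d) * (u * s) := by
          simp only [mul_assoc, ThreeTrans.mul_self_mul hD.1 hd]
      _ = (d * u * d) * s * (u * s) := by rw [hds]
      _ = u * (u * s) := by rw [(hV.ab _ (hconjV d u hd huV) s hsV).eq, ← e1]
      _ = s := by rw [← mul_assoc, hV.sq u huV, one_mul]

end Cfsg.Agent.Grp.TranspModule
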