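import Cfsg.Agent.Lib.Grp.TranspModule.Plane

/-! Two classes of 3-transpositions acting by the rules on the same module coincide. -/

set_option autoImplicit false

namespace Cfsg.Agent.Grp.TranspModule

open Cfsg Cfsg.Agent.Spor
open Cfsg.Agent.Spor.ThreeTrans (braid commute_conj_iff)

variable {Q : Type*} [Group Q] {R : Type*} [Ring R] {ρ : Q →* R} {D E : Set Q}

theorem conj_ee {e : Q} (he : e * e = 1) {a b : Q} : Commute (e * a * e) (e * b * e) ↔ Commute a b := by
  have : e⁻¹ = e := inv_eq_of_mul_eq_one_right he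
  simpa [this] using commute_conj_iff e a b

theorem conj_fix {e a : Q} (he : e * e = 1) (h : Commute e a) : e * a * e = a := by
  rw [h.eq, mul_assoc, he, mul_one]

theorem conj_conj {e : Q} (he : e * e = 1) (a : Q) : e * (e * a * e) * e = a := by
  rw [← mul_assoc, ← mul_assoc, he, one_mul, mul_assoc, he, mul_one]

variable [Finite Q]

/-- A member of one class moving a member of the other does not give a commuting pair. -/
theorem no_four (hD : Rules ρ D) (hE : Rules ρ E) {d e : Q} (hd : d ∈ D) (he : e ∈ E) (hde : ¬ Commute e d) :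
    ¬ Commute d (e * d * e) := by
  intro hc
  have hee := hE.sq he
  have hdd := hD.sq hd
  have hd'D : e * d * e ∈ D := by
    have h := ThreeTrans.conj_mem hD.cls e hd
    rwa [inv_eq_of_mul_eq_one_right hee] at h
  have he'E : d * e * d ∈ E := by
    have h := ThreeTrans.conj_mem hE.cls d he
    rwa [inv_eq_of_mul_eq_one_right hdd] at h
  have hne : d ≠ e * d * e := fun k => hde (by
    show e * d = d * e
    conv_rhs => rw [k]
    simp only [mul_assoc, hee, mul_one])
  have hne' : e ≠ d * e * d := fun k => hde (by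
    show e * d = d * e
    conv_lhs => rw [k]
    simp only [mul_assoc, hdd, mul_one])
  have hc' : Commute e (d * e * d) := by
    show e * (d * e * d) = d * e * d * e
    have := hc.eq
    simpa only [mul_assoc] using this.symm
  have hA : ρ e * ρ e = 1 := by rw [← map_mul, hee, map_one]
  have hB : ρ d * ρ d = 1 := by rw [← map_mul, hdd, map_one]
  set X := xo ρ d with hX
  set Y := xo ρ e with hY
  have h1 : ρ e * X = xo ρ (e * d * e) * ρ e := by
    rw [xo_conj e d hee, mul_assoc (ρ e * xo ρ d), hA, mul_one]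
  have h2 : ρ d * Y = xo ρ (d * e * d) * ρ d := by
    rw [xo_conj d e hdd, mul_assoc (ρ d * xo ρ e), hB, mul_one]
  have hXYX : X * (Y * X) = 0 := by
    have : Y * X = ρ e * X + X := by rw [hY, xo, add_mul, one_mul]
    rw [this, mul_add, hD.xo_sq hd, add_zero, h1, ← mul_assoc, hD.orth d hd _ hd'D hne hc, zero_mul]
  have h3 : ρ d * (Y * X) = Y * X := by rw [hD.eq_add_one d, add_mul, one_mul, ← hX, hXYX, zero_add]
  have h4 : Y * X = xo ρ (d * e * d) * (ρ d * X) := by
    conv_lhs => rw [← h3, ← mul_assoc, h2, mul_assoc]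
  have h5 : Y * X = 0 := hE.disj he he'E hne' hc' h4
  have h6 : X * 1 = xo ρ (e * d * e) * ρ e := by
    rw [← h1, hE.eq_add_one e, add_mul, one_mul, ← hY, h5, zero_add, mul_one]
  have := hD.disj hd hd'D hne hc h6
  rw [mul_one] at this
  exact hD.nz d hd this

/-- The third member on the line of a moved member. -/
def piv (e a : Q) : Q := a * (e * a * e) * a

theorem piv_spec (hD : Rules ρ D) (hE : Rules ρ E) {a e : Q} (ha : a ∈ D) (he : e ∈ E) (hea : ¬ Commute e a) :
    piv e a ∈ D ∧ Commute e (piv e a) ∧ ¬ Commute (piv e a) a ∧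
      piv e a = (e * a * e) * a * (e * a * e) := by
  have hee := hE.sq he
  have haa := hD.sq ha
  have ha' : e * a * e ∈ D := by
    have h := ThreeTrans.conj_mem hD.cls e ha
    rwa [inv_eq_of_mul_eq_one_right hee] at h
  have hnc := no_four hD hE ha he hea
  have hb : piv e a = (e * a * e) * a * (e * a * e) := braid hD.cls.1 ha ha' hnc
  refine ⟨hD.mem ha ha', ?_, ?_, hb⟩
  · show e * piv e a = piv e a * e
    have h1 : e * piv e a * e = piv e a := by
      calc e * (a * (e * a * e) * a) * e = (e * a * e) * (e * (e * a * e) * e) * (e * a * e) := by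
            simp only [mul_assoc]; simp only [← mul_assoc e e, hee, one_mul]
        _ = piv e a := by rw [conj_conj hee, ← hb]
    calc e * piv e a = (e * piv e a * e) * e := by simp only [mul_assoc, hee, mul_one]
      _ = piv e a * e := by rw [h1]
  · intro hc
    apply hnc
    have := (conj_ee haa (a := piv e a) (b := a)).mpr hc
    rw [piv, conj_conj haa, conj_fix haa (Commute.refl a)] at this
    exact this.symm

/-- A pivot and a moved member commuting with it: the third member does not commute. -/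
theorem not_commute_third (hD : Rules ρ D) {a c g : Q} (ha : a ∈ D) (hc : c ∈ D) (hac : ¬ Commute a c)
    (hgc : Commute g c) (hga : ¬ Commute g a) : ¬ Commute g (a * c * a) := by
  intro h
  have hb := braid hD.cls.1 ha hc hac
  rw [hb] at h
  apply hga
  have h1 : a = c * (c * a * c) * c := (conj_conj (hD.sq hc) a).symm
  rw [h1]
  exact (hgc.mul_right h).mul_right hgc

variable (hD : Rules ρ D) (hE : Rules ρ E) (hinj : Function.Injective ρ)
  {e : Q} (he : e ∈ E) (heD : e ∉ D)

include hD hE he

/-- A member not commuting with a pivot is moved. -/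
theorem moved_of_not_commute {a g : Q} (ha : a ∈ D) (hea : ¬ Commute e a) (hg : g ∈ D)
    (hgc : ¬ Commute (piv e a) g) : ¬ Commute e g := by
  intro heg
  have hee := hE.sq he
  obtain ⟨hc, hec, hca, hcb⟩ := piv_spec hD hE ha he hea
  set c := piv e a with hcdef
  set b := e * a * e with hb
  have haa := hD.sq ha
  have hcc := hD.sq hc
  have hgg := hD.sq hg
  have hbc : c * a * c = b := by
    rw [braid hD.cls.1 hc ha hca, hcdef, piv, conj_conj haa]
  have hga : ¬ Commute g a := by
    intro h
    have h2 : Commute g b := by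
      have := (conj_ee hee).mpr h
      rwa [conj_fix hee heg] at this
    apply hgc
    have : Commute g c := by rw [hcdef, piv]; exact (h.mul_right h2).mul_right h
    exact this.symm
  set h' := c * g * c with hh'
  have hh'D : h' ∈ D := hD.mem hc hg
  have heh : Commute e h' := (hec.mul_right heg).mul_right hec
  have hha : ¬ Commute h' a := by
    intro h
    have h2 : Commute h' b := by
      have := (conj_ee hee).mpr h
      rwa [conj_fix hee heh] at this
    apply hgc
    have h3 : Commute h' c := by rw [hcdef, piv]; exact (h.mul_right h2).mul_right h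
    have := (conj_ee hcc).mpr h3
    rw [hh', conj_conj hcc, conj_fix hcc (Commute.refl c)] at this
    exact this.symm
  set p := c * a with hp
  set q := c * g with hq
  have cube : ∀ {x y : Q}, x ∈ D → y ∈ D → ¬ Commute x y → (x * y) ^ 3 = 1 :=
    fun hx hy => ThreeTrans.pow_three_of_not_commute hD.cls hx hy
  have hp3 : p ^ 3 = 1 := cube hc ha hca
  have hq3 : q ^ 3 = 1 := cube hc hg hgc
  have hqp : (q * p) ^ 3 = 1 := by
    have h1 : q * p = h' * a := by simp [hq, hp, hh', mul_assoc]
    rw [h1]; exact cube hh'D ha hha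
  have hq2 : q⁻¹ = g * c := by rw [hq, mul_inv_rev, inv_eq_of_mul_eq_one_right hgg, inv_eq_of_mul_eq_one_right hcc]
  have hp2 : p⁻¹ = a * c := by rw [hp, mul_inv_rev, inv_eq_of_mul_eq_one_right haa, inv_eq_of_mul_eq_one_right hcc]
  have hqip : (q⁻¹ * p) ^ 3 = 1 := by
    have h1 : q⁻¹ * p = g * a := by rw [hq2, hp, mul_assoc, ← mul_assoc c c, hcc, one_mul]
    rw [h1]; exact cube hg ha hga
  have hp1 : p ≠ 1 := fun k => hca (by
    have : c = a := by rw [← mul_one c, ← haa, ← mul_assoc, ← hp, k, one_mul]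
    rw [this])
  have hq1 : q ≠ 1 := fun k => hgc (by
    have : c = g := by rw [← mul_one c, ← hgg, ← mul_assoc, ← hq, k, one_mul]
    rw [this])
  have hpq : Commute p (q * p * q⁻¹) := by
    have hqq : q * q = q⁻¹ := eq_inv_of_mul_eq_one_left (by rw [← hq3, pow_three, mul_assoc])
    have e1 : q * p * q = p⁻¹ * q⁻¹ * p⁻¹ := by
      rw [pow_three] at hqp
      have : (q * p * q) * (p * q * p) = 1 := by simpa only [mul_assoc] using hqp
      rw [eq_inv_of_mul_eq_one_left this]; simp [mul_assoc]
    have e2 : q⁻¹ * p * q⁻¹ = p⁻¹ * q * p⁻¹ := by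
      rw [pow_three] at hqip
      have : (q⁻¹ * p * q⁻¹) * (p * q⁻¹ * p) = 1 := by simpa only [mul_assoc] using hqip
      rw [eq_inv_of_mul_eq_one_left this]; simp [mul_assoc]
    show p * (q * p * q⁻¹) = q * p * q⁻¹ * p
    calc p * (q * p * q⁻¹) = p * (q * p * (q * q)) := by rw [hqq]
      _ = p * (q * p * q) * q := by simp only [mul_assoc]
      _ = q⁻¹ * p⁻¹ * q := by rw [e1]; simp [mul_assoc]
      _ = q⁻¹ * (p⁻¹ * q * p⁻¹) * p := by simp [mul_assoc]
      _ = q⁻¹ * (q⁻¹ * p * q⁻¹) * p := by rw [e2]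
      _ = (q * q) * (q * q) * q⁻¹ * (q * (p * q⁻¹)) * p * 1 ^ 0 := by
          rw [pow_zero, mul_one, hqq]; simp [mul_assoc]
      _ = q * p * q⁻¹ * p := by
          rw [pow_zero, mul_one]; simp only [mul_assoc, mul_inv_cancel_left]
          congr 1
          simp [← mul_assoc, hqq]
  -- `e` inverts the conjugate as well
  have hep : e * p * e = p⁻¹ := by
    calc e * p * e = (e * c * e) * b := by simp [hp, hb, mul_assoc, ← mul_assoc e e, hee]
      _ = c * b := by rw [conj_fix hee hec]
      _ = (c * c) * (a * c) := by rw [← hbc]; simp only [hp, mul_assoc]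
      _ = p⁻¹ := by rw [hcc, one_mul, hp2]
  have heq : e * q * e = q := conj_fix hee (hec.mul_right heg)
  have hev : e * (q * p * q⁻¹) * e = (q * p * q⁻¹)⁻¹ := by
    have hq' : e * q⁻¹ * e = q⁻¹ := conj_fix hee (hec.mul_right heg).inv_right
    calc e * (q * p * q⁻¹) * e = (e * q * e) * (e * p * e) * (e * q⁻¹ * e) := by
          simp [mul_assoc, ← mul_assoc e e, hee]
      _ = _ := by rw [heq, hep, hq']; simp [mul_assoc]
  have hv3 : (q * p * q⁻¹) ^ 3 = 1 := by rw [conj_pow, hp3, mul_one, mul_inv_cancel]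
  have hv1 : q * p * q⁻¹ ≠ 1 := fun k => hp1 (conj_eq_one_iff.mp k)
  by_cases hcomm : q * p * q⁻¹ = p
  · -- two commuting translations inverted by `c`
    have hcq : Commute p q := (mul_inv_eq_iff_eq_mul.mp hcomm).symm
    refine hD.no_pair hc ?_ ?_ hcq hp3 hq3 hp1 hq1 ?_ ?_
    · rw [hp2, hp]; simp [← mul_assoc, hcc]
    · rw [hq2, hq]; simp [← mul_assoc, hcc]
    · intro k
      exact hga (by rw [mul_left_cancel (show c * g = c * a from k)])
    · intro k
      apply hea
      have : g = b := by
        rw [hp2] at k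
        rw [← hbc, mul_assoc, ← k, hq, ← mul_assoc, hcc, one_mul]
      exact absurd (this ▸ heg) fun h => hea (by
        have := (conj_ee hee).mpr h
        rwa [conj_fix hee (Commute.refl e), hb, conj_conj hee] at this)
  · refine hE.no_pair he hep hev hpq hp3 hv3 hp1 hv1 hcomm fun k => ?_
    have h2 : q * (q * p * q⁻¹) * q⁻¹ = p := by
      rw [k, ← inv_inv p]
      have := congrArg (fun z => z⁻¹) k
      simp only [mul_inv_rev, inv_inv] at this ⊢
      simpa [mul_assoc] using this
    have h3 : q * q * p * (q * q)⁻¹ = p := by simpa [mul_assoc] using h2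
    have hcq : Commute (q * q) p := mul_inv_eq_iff_eq_mul.mp h3
    have hq4 : q = (q * q) * (q * q) := by
      rw [pow_three] at hq3
      rw [mul_assoc, hq3, mul_one]
    refine hcomm (mul_inv_eq_iff_eq_mul.mpr ?_)
    rw [hq4]
    exact (hcq.mul_left hcq).eq

/-- Pivots of the members not commuting with a pivot coincide with it. -/
theorem piv_eq_or (hinj : Function.Injective ρ) {a g : Q} (ha : a ∈ D) (hea : ¬ Commute e a) (hg : g ∈ D)
    (hgc : ¬ Commute (piv e a) g) : piv e g = piv e a ∨ e = piv e a := by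
  have hee := hE.sq he
  obtain ⟨hc, hec, hca, hcb⟩ := piv_spec hD hE ha he hea
  have heg := moved_of_not_commute hD hE he ha hea hg hgc
  obtain ⟨hc', hec', hc'g, hc'b⟩ := piv_spec hD hE hg he heg
  by_cases hcc' : piv e g = piv e a
  · exact Or.inl hcc'
  right
  have hcm : Commute (piv e a) (piv e g) := by
    by_contra k
    exact moved_of_not_commute hD hE he ha hea hc' k hec'
  set c := piv e a with hcdef
  set c' := piv e g with hc'def
  set g' := e * g * e with hg'
  have hgg := hD.sq hg
  have hcc := hD.sq hc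
  have hc'c' := hD.sq hc'
  have hg'D : g' ∈ D := by
    have h := ThreeTrans.conj_mem hD.cls e hg
    rwa [inv_eq_of_mul_eq_one_right hee] at h
  have hg'g' := hD.sq hg'D
  have hnc := no_four hD hE hg he heg
  -- the factor `z`
  set z := e * c' with hz
  have hzz : z * z = 1 := by
    show e * c' * (e * c') = 1
    rw [← mul_assoc, mul_assoc e c' e, ← hec'.eq, ← mul_assoc, hee, one_mul, hc'c']
  have hline : c' * g' * c' = g := by
    rw [braid hD.cls.1 hc' hg'D (fun k => hnc (by
      have := (conj_ee hg'g').mpr k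
      rwa [hc'b, conj_conj hg'g', conj_fix hg'g' (Commute.refl g')] at this)), hc'b, conj_conj hg'g']
  have hzg' : Commute z g' := by
    have h1 : z * g' * z = g' := by
      calc e * c' * g' * (e * c') = e * (c' * g' * c') * e := by
            rw [hec'.eq]; simp only [mul_assoc, ← hec'.eq]
        _ = g' := by rw [hline]
    show z * g' = g' * z
    calc z * g' = z * g' * z * z := by rw [mul_assoc _ z z, hzz, mul_one]
      _ = g' * z := by rw [h1]
  have hzc : Commute z c := hec.mul_left hcm.symm
  have hg'c : ¬ Commute g' c := fun k => hgc (by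
    have := (conj_ee hee).mpr k.symm
    rwa [conj_fix hee hec, hg', conj_conj hee] at this)
  set f := g * e * g with hf
  have hfE : f ∈ E := by
    have h := ThreeTrans.conj_mem hE.cls g he
    rwa [inv_eq_of_mul_eq_one_right hgg] at h
  have hfz : f = z * g' := by
    have h1 : f = e * g' * g := by
      simp [hf, hg', mul_assoc, ← mul_assoc e e, hee]
    have h2 : g' * g = c' * g' := by
      rw [hc'def, piv, ← hg', braid hD.cls.1 hg hg'D hnc]
      simp only [mul_assoc, hg'g', mul_one]
    rw [h1, mul_assoc, h2, hz, mul_assoc]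
  set k := c * g' * c with hk
  have hzk : Commute z k := (hzc.mul_right hzg').mul_right hzc
  have hcfc : c * f * c = z * k := by
    rw [hfz, ← mul_assoc c z g', ← hzc.eq]; simp only [hk, mul_assoc]
  have hgkg : g' * k * g' = c := by
    rw [hk, braid hD.cls.1 hc hg'D (fun h => hg'c h.symm)]
    simp [mul_assoc, ← mul_assoc g' g', hg'g']
  have he2 : f * (c * f * c) * f = e * c' * c := by
    rw [hcfc, hfz]
    have e1 : z * g' * z = g' := by rw [hzg'.eq, mul_assoc, hzz, mul_one]
    calc z * g' * (z * k) * (z * g') = (z * g' * z) * k * (z * g') := by simp only [mul_assoc]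
      _ = g' * k * (g' * z) := by rw [e1, hzg'.eq]
      _ = c * z := by rw [← mul_assoc, hgkg]
      _ = e * c' * c := hzc.eq.symm
  set e2 := e * c' * c with he2def
  have he2E : e2 ∈ E := by
    rw [← he2]
    refine hE.mem hfE ?_
    have h := ThreeTrans.conj_mem hE.cls c hfE
    rwa [inv_eq_of_mul_eq_one_right hcc] at h
  have hne2 : e ≠ e2 := fun k2 => hcc' (by
    rw [he2def, mul_assoc, left_eq_mul] at k2
    rw [← mul_one c', ← hcc, ← mul_assoc, k2, one_mul])
  have hee2 : Commute e e2 := ((Commute.refl e).mul_right hec').mul_right hec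
  have hq1 : xo ρ (c' * c) = xo ρ c' + xo ρ c := by
    calc xo ρ (c' * c) = xo ρ c' * xo ρ c + xo ρ c' + xo ρ c + (1 + 1) := by
          conv_lhs => rw [xo, map_mul, hD.eq_add_one c', hD.eq_add_one c]
          noncomm_ring
      _ = _ := by rw [hD.orth c' hc' c hc hcc' hcm.symm, hD.two, zero_add, add_zero]
  have hq2 : xo ρ (c' * c) = xo ρ e + xo ρ e2 := by
    have h1 : c' * c = e * e2 := by rw [he2def, ← mul_assoc, ← mul_assoc, hee, one_mul]
    calc xo ρ (c' * c) = xo ρ e * xo ρ e2 + xo ρ e + xo ρ e2 + (1 + 1) := by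
          conv_lhs => rw [h1, xo, map_mul, hE.eq_add_one e, hE.eq_add_one e2]
          noncomm_ring
      _ = _ := by rw [hE.orth e he e2 he2E hne2 hee2, hE.two, zero_add, add_zero]
  have h0 : xo ρ e * xo ρ c = xo ρ e2 * xo ρ c := by
    have h1 : (xo ρ e + xo ρ e2) * xo ρ c = 0 := by
      rw [← hq2, hq1, add_mul, hD.orth c' hc' c hc hcc' hcm.symm, hD.xo_sq hc, add_zero]
    rw [add_mul] at h1
    rw [eq_neg_of_add_eq_zero_left h1, hE.neg]
  have hec0 : xo ρ e * xo ρ c = 0 := hE.disj he he2E hne2 hee2 h0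
  -- now `e` is the pivot
  have hrc : Commute (ρ e) (ρ c) := hec.map ρ
  have hce0 : xo ρ c * xo ρ e = 0 := by
    rw [← hec0, xo, xo]
    simp only [add_mul, mul_add, one_mul, mul_one, hrc.eq]
    abel
  set b := e * a * e with hb
  have haa := hD.sq ha
  have hbc : c * a * c = b := by rw [braid hD.cls.1 hc ha hca, hcdef, piv, conj_conj haa]
  have hza : Commute (e * c) a := by
    show e * c * a = a * (e * c)
    have h1 : e * c * a = e * (c * a * c) * c := by simp only [mul_assoc, hcc, mul_one]
    rw [h1, hbc, hb]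
    simp [mul_assoc, ← mul_assoc e e, hee]
  set s := xo ρ e + xo ρ c with hs
  have hzs : ρ (e * c) = 1 + s := by
    calc ρ (e * c) = xo ρ e * xo ρ c + (xo ρ e + xo ρ c) + 1 := by
          conv_lhs => rw [map_mul, hE.eq_add_one e, hD.eq_add_one c]
          noncomm_ring
      _ = 1 + s := by rw [hec0, zero_add, add_comm]
  have hsa : s * xo ρ a = xo ρ a * s := by
    have h1 : (1 + s) * ρ a = ρ a * (1 + s) := by rw [← hzs, ← map_mul, ← map_mul, hza.eq]
    rw [add_mul (1 : R) s, mul_add (ρ a) 1 s, one_mul, mul_one, add_right_inj] at h1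
    rw [xo, mul_add s, add_mul (ρ a) 1, mul_one, one_mul, h1]
  have hsc : s * xo ρ c = 0 := by rw [hs, add_mul, hec0, hD.xo_sq hc, add_zero]
  have hloop : xo ρ a * xo ρ c * xo ρ a = xo ρ a := hD.loop a ha c hc fun k => hca k.symm
  have hloop' : xo ρ c * xo ρ a * xo ρ c = xo ρ c := hD.loop c hc a ha hca
  have hsa0 : s * xo ρ a = 0 := by
    rw [← hloop, ← mul_assoc, ← mul_assoc, hsa, mul_assoc (xo ρ a) s, hsc, mul_zero, zero_mul]
  have hea1 : xo ρ e * xo ρ a = xo ρ c * xo ρ a := by
    rw [hs, add_mul] at hsa0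
    rw [eq_neg_of_add_eq_zero_left hsa0, hD.neg]
  have hae1 : xo ρ a * xo ρ e = xo ρ a * xo ρ c := by
    have h1 := hsa ▸ hsa0
    rw [hs, mul_add] at h1
    rw [eq_neg_of_add_eq_zero_left h1, hD.neg]
  have hfE' : a * e * a ∈ E := by
    have h := ThreeTrans.conj_mem hE.cls a he
    rwa [inv_eq_of_mul_eq_one_right haa] at h
  have hnef : ¬ Commute e (a * e * a) := fun k2 => no_four hD hE ha he hea (by
    show a * (e * a * e) = e * a * e * a
    have := k2.eq
    simpa only [mul_assoc] using this.symm)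
  have hl := hE.loop e he _ hfE' hnef
  rw [xo_conj a e haa, hD.eq_add_one a] at hl
  have hfin : xo ρ e = xo ρ c := by
    conv_lhs => rw [← hl]
    calc xo ρ e * ((xo ρ a + 1) * xo ρ e * (xo ρ a + 1)) * xo ρ e
        = (xo ρ e * xo ρ a * xo ρ e + xo ρ e * xo ρ e) * (xo ρ a * xo ρ e)
          + (xo ρ e * xo ρ a) * (xo ρ e * xo ρ e) + (xo ρ e * xo ρ e) * xo ρ e := by noncomm_ring
      _ = xo ρ e * xo ρ a * xo ρ e * (xo ρ a * xo ρ e) := by
          rw [hE.xo_sq he, mul_zero, zero_mul, add_zero, add_zero, add_zero]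
      _ = xo ρ c * (xo ρ a * xo ρ e) * (xo ρ a * xo ρ e) := by rw [hea1]; simp only [mul_assoc]
      _ = xo ρ c * (xo ρ a * xo ρ c * xo ρ a) * xo ρ c := by rw [hae1]; simp only [mul_assoc]
      _ = xo ρ c := by rw [hloop, hloop']
  refine hinj ?_
  rw [hE.eq_add_one e, hD.eq_add_one c, hfin]

omit hD hE he in
theorem common (hD : Rules ρ D) {c c' : Q} (hc : c ∈ D) (hc' : c' ∈ D) (hne : c' ≠ c) (hcm : Commute c c') :
    ∃ g ∈ D, ¬ Commute c g ∧ ¬ Commute c' g := by
  have key := ThreeTrans.noncomm_closed_eq hD.cls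
    (M := {d | d ∈ D ∧ (d = c ∨ ¬ Commute c d ∨ ∃ g ∈ D, ¬ Commute c g ∧ ¬ Commute d g)}) (fun d hd => hd.1)
    ⟨c, hc, Or.inl rfl⟩ ?_ c' hc'
  · rcases key.2 with h | h | h
    · exact absurd h hne
    · exact absurd hcm h
    · exact h
  rintro d ⟨hdD, hd⟩ g hg hdg
  refine ⟨hg, ?_⟩
  by_cases hcg : Commute c g
  swap
  · exact Or.inr (Or.inl hcg)
  rcases hd with rfl | hcd | ⟨a, ha, hca, hda⟩
  · exact absurd hcg hdg
  · exact Or.inr (Or.inr ⟨d, hdD, hcd, fun k => hdg k.symm⟩)
  · by_cases hga : Commute g a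
    swap
    · exact Or.inr (Or.inr ⟨a, ha, hca, hga⟩)
    by_cases hcd : Commute c d
    swap
    · exact Or.inr (Or.inr ⟨d, hdD, hcd, fun k => hdg k.symm⟩)
    refine Or.inr (Or.inr ⟨a * d * a, hD.mem ha hdD, ?_, ?_⟩)
    · exact not_commute_third hD ha hdD (fun k => hda k.symm) hcd hca
    · intro k
      have := (conj_ee (hD.sq ha)).mpr k
      rw [conj_fix (hD.sq ha) hga.symm, conj_conj (hD.sq ha)] at this
      exact hdg this.symm

include hinj heD in
theorem false_of_not_mem (hfix : ∀ z : Q, z * z = 1 → (∀ d ∈ D, Commute z d) → z = 1) : False := by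
  have hee := hE.sq he
  obtain ⟨a, ha, hea⟩ : ∃ a ∈ D, ¬ Commute e a := by
    by_contra k
    push Not at k
    exact ThreeTrans.ne_one hE.cls.1 he (hfix e hee k)
  obtain ⟨hc, hec, hca, -⟩ := piv_spec hD hE ha he hea
  have hpiv : ∀ {u g : Q}, u ∈ D → ¬ Commute e u → g ∈ D → ¬ Commute (piv e u) g → piv e g = piv e u :=
    fun {u g} hu heu hg hgu => (piv_eq_or hD hE he hinj hu heu hg hgu).resolve_right
      fun k => heD (k ▸ (piv_spec hD hE hu he heu).1)
  have huniq : ∀ u ∈ D, ¬ Commute e u → piv e u = piv e a := by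
    intro u hu heu
    obtain ⟨hcu, hecu, -, -⟩ := piv_spec hD hE hu he heu
    by_contra hne
    have hcm : Commute (piv e a) (piv e u) := by
      by_contra k
      exact moved_of_not_commute hD hE he ha hea hcu k hecu
    obtain ⟨g, hg, hg1, hg2⟩ := common hD hc hcu hne hcm
    exact hne ((hpiv hu heu hg hg2).symm.trans (hpiv ha hea hg hg1))
  have hzz : (e * piv e a) * (e * piv e a) = 1 := by
    rw [← mul_assoc, mul_assoc e (piv e a) e, ← hec.eq, ← mul_assoc, hee, one_mul, hD.sq hc]
  have hz : ∀ d ∈ D, Commute (e * piv e a) d := by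
    intro d hd
    by_cases hed : Commute e d
    · refine hed.mul_left ?_
      by_contra k
      exact moved_of_not_commute hD hE he ha hea hd k hed
    · obtain ⟨hcd, -, hcdd, hcdb⟩ := piv_spec hD hE hd he hed
      rw [← huniq d hd hed]
      have hbc : piv e d * d * piv e d = e * d * e := by
        rw [braid hD.cls.1 hcd hd hcdd, piv, conj_conj (hD.sq hd)]
      show e * piv e d * d = d * (e * piv e d)
      have h1 : e * piv e d * d = e * (piv e d * d * piv e d) * piv e d := by
        simp only [mul_assoc, hD.sq hcd, mul_one]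
      rw [h1, hbc]
      simp [mul_assoc, ← mul_assoc e e, hee]
  exact heD (by
    have h1 := hfix _ hzz hz
    rw [mul_eq_one_iff_eq_inv, inv_eq_of_mul_eq_one_right (hD.sq hc)] at h1
    exact h1 ▸ hc)

omit he in
/-- The two classes coincide. -/
theorem classes_eq (hinj : Function.Injective ρ)
    (hfix : ∀ z : Q, z * z = 1 → (∀ d ∈ D, Commute z d) → z = 1) : E = D := by
  obtain ⟨e, he, hcl⟩ := hE.cls.2.1
  have heD : e ∈ D := by
    by_contra h
    exact false_of_not_mem hD hE hinj he h hfix
  obtain ⟨d, hd, hcl'⟩ := hD.cls.2.1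
  rw [hcl'] at heD
  refine Set.ext fun x => ?_
  rw [hcl, hcl']
  exact ⟨fun h => IsConj.trans (show IsConj d e from heD) h,
    fun h => IsConj.trans (show IsConj d e from heD).symm h⟩

end Cfsg.Agent.Grp.TranspModule
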