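import Cfsg.Agent.Lib.Grp.TranspModule.Rules

/-! Translations of the members of a class which behave like members lie in the commutator spaces. -/

set_option autoImplicit false

namespace Cfsg.Agent.Grp.TranspModule

open Cfsg Cfsg.Agent.Spor

variable {Q : Type*} [Group Q] [Finite Q] {M : Type*} [AddCommGroup M]
  {ρ : Q →* AddMonoid.End M} {D : Set Q} {L : Q → M → Prop}

/-- The conditions on the translations. -/
structure Lifts (ρ : Q →* AddMonoid.End M) (D : Set Q) (L : Q → M → Prop) : Prop where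
  rules : Rules ρ D
  two : ∀ x : M, x + x = 0
  ex : ∀ q ∈ D, ∃ u, L q u
  zero : ∀ q ∈ D, ∀ u, L q u → xo ρ q u = 0
  cm : ∀ q ∈ D, ∀ r ∈ D, q ≠ r → Commute q r → ∀ u w, L q u → L r w → xo ρ r u = xo ρ q w
  nc : ∀ q ∈ D, ∀ r ∈ D, ¬ Commute q r → ∀ u w, L q u → L r w →
    u + xo ρ q (xo ρ r u) = w + xo ρ r (xo ρ q w)
  fix : ∀ p : M, (∀ q ∈ D, xo ρ q p = 0) → p = 0

theorem app (f g : AddMonoid.End M) (x : M) : (f * g) x = f (g x) := rfl

variable (h : Lifts ρ D L)

include h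

theorem Lifts.kill_sq {a : Q} (ha : a ∈ D) (x : M) : xo ρ a (xo ρ a x) = 0 := by
  rw [← app, h.rules.xo_sq ha]; rfl

theorem Lifts.kill_orth {a b : Q} (ha : a ∈ D) (hb : b ∈ D) (hne : a ≠ b) (hc : Commute a b) (x : M) :
    xo ρ a (xo ρ b x) = 0 := by
  rw [← app, h.rules.orth a ha b hb hne hc]; rfl

theorem Lifts.back {a b : Q} (ha : a ∈ D) (hb : b ∈ D) (hnc : ¬ Commute a b) (x : M) :
    xo ρ a (xo ρ b (xo ρ a x)) = xo ρ a x := by
  rw [← app, ← app, h.rules.loop a ha b hb hnc]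

theorem Lifts.add_zero_eq {x y : M} (e : x + y = 0) : x = y := by
  have := congrArg (· + y) e
  simpa [add_assoc, h.two] using this

theorem Lifts.orth_zero {a c : Q} (ha : a ∈ D) (hc : c ∈ D) (hne : a ≠ c) (hac : Commute a c) {u : M}
    (hu : L a u) : xo ρ c u = 0 := by
  obtain ⟨w, hw⟩ := h.ex c hc
  obtain ⟨b, hb, hba, hbc⟩ := h.rules.exists_sep ha hc hne
  have hbc' : b ≠ c := fun k => hba (k ▸ hac.symm)
  have e := h.cm a ha c hc hne hac u w hu hw
  rw [e, ← h.back ha hb (fun k => hba k.symm), ← e, h.kill_orth hb hc hbc' hbc, map_zero]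

/-- The corrected translation. -/
theorem Lifts.main {d : Q} (hd : d ∈ D) (hex : ∃ a ∈ D, ¬ Commute d a) {v : M} (hv : L d v) :
    ∃ s, v = xo ρ d s := by
  obtain ⟨a₀, ha₀, hda₀⟩ := hex
  let P : Q → M := fun a => v + xo ρ d (xo ρ a v)
  have hP : ∀ a ∈ D, ¬ Commute d a → ∀ u, L a u → P a = u + xo ρ a (xo ρ d u) :=
    fun a ha hda u hu => h.nc d hd a ha hda v u hv hu
  have hPd : ∀ a, xo ρ d (P a) = 0 := fun a => by
    simp only [P, map_add, h.zero d hd v hv, h.kill_sq hd, add_zero]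
  have hPa : ∀ a ∈ D, ¬ Commute d a → xo ρ a (P a) = 0 := by
    intro a ha hda
    obtain ⟨u, hu⟩ := h.ex a ha
    rw [hP a ha hda u hu, map_add, h.zero a ha u hu, h.kill_sq ha, add_zero]
  have hPb : ∀ a ∈ D, ¬ Commute d a → ∀ b ∈ D, a ≠ b → Commute a b → xo ρ b (P a) = 0 := by
    intro a ha hda b hb hne hc
    obtain ⟨u, hu⟩ := h.ex a ha
    rw [hP a ha hda u hu, map_add, h.orth_zero ha hb hne hc hu, h.kill_orth hb ha hne.symm hc.symm, add_zero]
  have hsum : ∀ a b, P a + P b = xo ρ d (xo ρ a v + xo ρ b v) := fun a b => by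
    simp only [P, map_add]
    rw [add_add_add_comm, h.two, zero_add]
  have key : ∀ a ∈ D, ∀ b ∈ D, ¬ Commute d b → xo ρ b (P a) = 0 → xo ρ b (P b) = 0 → P a = P b := by
    intro a ha b hb hdb h1 h2
    apply h.add_zero_eq
    have e : xo ρ b (P a + P b) = 0 := by rw [map_add, h1, h2, add_zero]
    rw [hsum] at e ⊢
    rw [← h.back hd hb hdb, e, map_zero]
  have hd2 : d * d = 1 := h.rules.sq hd
  have same : ∀ a ∈ D, ¬ Commute d a → ∀ b ∈ D, ¬ Commute d b → P a = P b := by
    intro a ha hda b hb hdb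
    rcases eq_or_ne a b with rfl | hne
    · rfl
    by_cases hab : Commute a b
    · exact key a ha b hb hdb (hPb a ha hda b hb hne hab) (hPa b hb hdb)
    set c := d * a * d with hc
    have hcD : c ∈ D := h.rules.mem hd ha
    have hcc := h.rules.sq hcD
    have hbr : c = a * d * a := ThreeTrans.braid h.rules.cls.1 hd ha hda
    have hdc : ¬ Commute d c := fun k => hda (by
      have hd' : d⁻¹ = d := inv_eq_of_mul_eq_one_right hd2
      have e : c = d * a * d⁻¹ := by rw [hc, hd']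
      rw [e] at k
      refine (ThreeTrans.commute_conj_iff d d a).mp ?_
      rwa [mul_inv_cancel_right])
    have hca : P a = P c := by
      refine key a ha c hcD hdc ?_ (hPa c hcD hdc)
      rw [hc, xo_conj d a hd2, app, app]
      have e : ρ d (P a) = P a := by
        rw [h.rules.eq_add_one d]
        show xo ρ d (P a) + P a = P a
        rw [hPd a, zero_add]
      rw [e, hPa a ha hda, map_zero]
    by_cases hcb : Commute c b
    · rcases eq_or_ne c b with rfl | hne'
      · exact hca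
      · exact hca.trans (key c hcD b hb hdb (hPb c hcD hdc b hb hne' hcb) (hPa b hb hdb))
    -- a plane
    have haa := h.rules.sq ha
    have hh' : ¬ Commute d (a * b * a) := fun k => hcb (by
      rw [hbr]
      have e : a * (a * b * a) * a = b := by
        rw [← mul_assoc, ← mul_assoc, haa, one_mul, mul_assoc, haa, mul_one]
      rw [← e]
      have ha' : a⁻¹ = a := inv_eq_of_mul_eq_one_right haa
      have := (ThreeTrans.commute_conj_iff a d (a * b * a)).mpr k
      rwa [ha'] at this)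
    obtain ⟨u, hu⟩ := h.ex a ha
    obtain ⟨w, hw⟩ := h.ex b hb
    set r1 := P a + P b with hr1
    set r2 := P a + (u + xo ρ a (xo ρ b u)) with hr2
    set r3 := P b + (u + xo ρ a (xo ρ b u)) with hr3
    have hsplit : r1 = r2 + r3 :=
      (fun x y z => by rw [add_add_add_comm, h.two, add_zero] : ∀ x y z : M, x + y = (x + z) + (y + z))
        (P a) (P b) (u + xo ρ a (xo ρ b u))
    have h2 : ∃ s, r2 = xo ρ a s := ⟨xo ρ d u + xo ρ b u, by
      rw [hr2, hP a ha hda u hu, add_add_add_comm, h.two, zero_add, map_add]⟩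
    have h3 : ∃ s, r3 = xo ρ b s := ⟨xo ρ d w + xo ρ a w, by
      rw [hr3, hP b hb hdb w hw, h.nc a ha b hb hab u w hu hw, add_add_add_comm, h.two, zero_add, map_add]⟩
    obtain ⟨s2, h2⟩ := h2
    obtain ⟨s3, h3⟩ := h3
    have ea : xo ρ a r1 = xo ρ a r3 := by rw [hsplit, map_add, h2, h.kill_sq ha, zero_add]
    have eb : xo ρ b r1 = xo ρ b r2 := by rw [hsplit, map_add, h3, h.kill_sq hb, add_zero]
    have f3 : r3 = xo ρ b (xo ρ a r1) := by rw [ea, h3, h.back hb ha fun k => hab k.symm]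
    have f2 : r2 = xo ρ a (xo ρ b r1) := by rw [eb, h2, h.back ha hb hab]
    have e0 : xo ρ d r1 = 0 := by rw [hr1, map_add, hPd, hPd, add_zero]
    have hloops : (xo ρ d * xo ρ a * xo ρ b + xo ρ d * xo ρ b * xo ρ a) * xo ρ d = xo ρ d := by
      have e := h.rules.loop d hd _ (h.rules.mem ha hb) hh'
      rw [xo_conj a b haa, h.rules.eq_add_one a] at e
      have e2 : xo ρ d * ((xo ρ a + 1) * xo ρ b * (xo ρ a + 1)) * xo ρ d
          = (xo ρ d * xo ρ a * xo ρ b + xo ρ d * xo ρ b * xo ρ a) * xo ρ d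
            + (xo ρ d * (xo ρ a * xo ρ b * xo ρ a) * xo ρ d + xo ρ d * xo ρ b * xo ρ d) := by
        noncomm_ring
      rw [e, h.rules.loop a ha b hb hab, h.rules.loop d hd a ha hda, h.rules.loop d hd b hb hdb,
        h.rules.two, add_zero] at e2
      exact e2.symm
    apply h.add_zero_eq
    show r1 = 0
    calc r1 = xo ρ d (xo ρ a v + xo ρ b v) := hsum a b
      _ = ((xo ρ d * xo ρ a * xo ρ b + xo ρ d * xo ρ b * xo ρ a) * xo ρ d) (xo ρ a v + xo ρ b v) := by
          rw [hloops]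
      _ = xo ρ d (xo ρ a (xo ρ b r1)) + xo ρ d (xo ρ b (xo ρ a r1)) := by rw [app, ← hsum, ← hr1]; rfl
      _ = xo ρ d (r2 + r3) := by rw [← f2, ← f3, ← map_add]
      _ = 0 := by rw [← hsplit, e0]
  refine ⟨xo ρ a₀ v, h.add_zero_eq (h.fix _ fun c hc => ?_)⟩
  show xo ρ c (P a₀) = 0
  by_cases hdc : Commute d c
  · rcases eq_or_ne d c with rfl | hne
    · exact hPd a₀
    · simp only [P, map_add, h.orth_zero hd hc hne hdc hv, h.kill_orth hc hd hne.symm hdc.symm, add_zero]
  · rw [same a₀ ha₀ hda₀ c hc hdc]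
    exact hPa c hc hdc

end Cfsg.Agent.Grp.TranspModule
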