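import Cfsg.Agent.Lib.Grp.TranspModule.Rules

/-! Two commuting elements of order three inverted by a member: there are none. -/

set_option autoImplicit false

namespace Cfsg.Agent.Grp.TranspModule

open Cfsg Cfsg.Agent.Spor

variable {Q : Type*} [Group Q] {R : Type*} [Ring R] {ρ : Q →* R} {E : Set Q}

theorem Rules.triple_zero (h : Rules ρ E) {e k : Q} (he : e ∈ E) (hinv : e * k * e = k⁻¹) (h3 : k ^ 3 = 1)
    (hk : k ≠ 1) : (1 + ρ k + ρ k * ρ k) * xo ρ e = 0 := by
  have hee := h.sq he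
  have hkk : k⁻¹ * k⁻¹ = k := by
    rw [pow_three] at h3
    rw [← mul_inv_rev, inv_eq_of_mul_eq_one_left h3]
  set f : Q := e * k with hf
  have hfk : k * e * k⁻¹ = f := by
    have h1 : k * e = e * k⁻¹ := by rw [← hinv, ← mul_assoc, ← mul_assoc, hee, one_mul]
    rw [h1, mul_assoc, hkk]
  have hfE : f ∈ E := hfk ▸ ThreeTrans.conj_mem h.cls k he
  have hef : e * f = k := by rw [hf, ← mul_assoc, hee, one_mul]
  have hfe : f * e = k⁻¹ := by rw [hf, hinv]
  have hnc : ¬ Commute e f := fun c => hk (by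
    have h2 : k * k = 1 := by
      have h1 : k⁻¹ = k := by rw [← hfe, ← hef]; exact c.eq.symm
      exact inv_eq_iff_mul_eq_one.mp h1
    rw [pow_three, h2, mul_one] at h3
    exact h3)
  have hl := h.loop e he f hfE hnc
  have hA : ρ e * ρ e = 1 := by rw [← map_mul, hee, map_one]
  have hk1 : ρ k = ρ e * ρ f := by rw [← map_mul, hef]
  have hk2 : ρ k * ρ k = ρ f * ρ e := by
    rw [← map_mul, ← map_mul, hfe]
    congr 1
    rw [pow_three] at h3
    exact eq_inv_of_mul_eq_one_left (by rwa [← mul_assoc] at h3)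
  rw [hk2, hk1]
  have e1 : xo ρ e * xo ρ f * xo ρ e + xo ρ e
      = (ρ e * ρ f * ρ e + ρ e * ρ f + ρ e * ρ e + ρ e + ρ f * ρ e + ρ f + ρ e + 1) + (ρ e + 1) := by
    simp only [xo]; noncomm_ring
  rw [hl, h.two] at e1
  calc (1 + ρ e * ρ f + ρ f * ρ e) * xo ρ e
      = (ρ e * ρ f * ρ e + ρ e * ρ f + ρ e * ρ e + ρ e + ρ f * ρ e + ρ f + ρ e + 1) + (ρ e + 1)
        + ((ρ f * (ρ e * ρ e) - ρ f) - (ρ e * ρ e - 1) - (ρ e + ρ e) - 1 - 1) := by
        simp only [xo]; noncomm_ring
    _ = 0 := by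
        rw [← e1, hA, mul_one, h.two, sub_self, sub_self, zero_add, sub_self, sub_zero, zero_sub, sub_eq_add_neg,
          h.neg, h.two]

theorem Rules.no_pair (h : Rules ρ E) {e p v : Q} (he : e ∈ E) (hp : e * p * e = p⁻¹) (hv : e * v * e = v⁻¹)
    (hpv : Commute p v) (hp3 : p ^ 3 = 1) (hv3 : v ^ 3 = 1) (hp1 : p ≠ 1) (hv1 : v ≠ 1) (hne : v ≠ p)
    (hne' : v ≠ p⁻¹) : False := by
  have hee := h.sq he
  have hinv : ∀ {a b : Q}, Commute a b → e * a * e = a⁻¹ → e * b * e = b⁻¹ → e * (a * b) * e = (a * b)⁻¹ := by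
    intro a b hab ha hb
    calc e * (a * b) * e = (e * a) * (e * e) * (b * e) := by rw [hee, mul_one]; simp only [mul_assoc]
      _ = (e * a * e) * (e * b * e) := by simp only [mul_assoc]
      _ = (a * b)⁻¹ := by rw [ha, hb, ← mul_inv_rev, hab.eq]
  have hv' : e * (v * v) * e = (v * v)⁻¹ := hinv (Commute.refl v) hv hv
  have hvv : v * v = v⁻¹ := eq_inv_of_mul_eq_one_left (by rw [← hv3, pow_three, mul_assoc])
  have n1 := h.triple_zero he hp hp3 hp1
  have n2 := h.triple_zero he hv hv3 hv1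
  have n3 := h.triple_zero he (hinv hpv hp hv) (by rw [hpv.mul_pow, hp3, hv3, one_mul])
    (fun k => hne' (eq_inv_of_mul_eq_one_right k))
  have n4 := h.triple_zero he (hinv (hpv.mul_right hpv) hp hv')
    (by rw [(hpv.mul_right hpv).mul_pow, hp3, one_mul, hvv, inv_pow, hv3, inv_one])
    (fun k => hne (by rw [hvv, mul_inv_eq_one] at k; exact k.symm))
  set P := ρ p with hP
  set V := ρ v with hV
  have hc : V * P = P * V := by rw [hP, hV, ← map_mul, ← map_mul, hpv.eq]
  have hV3 : V * V * V = 1 := by rw [hV, ← map_mul, ← map_mul, ← pow_three', hv3, map_one]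
  have hc2 : ∀ r, V * (P * r) = P * (V * r) := fun r => by rw [← mul_assoc, hc, mul_assoc]
  have e3 : ρ (p * v) = P * V := map_mul ρ p v
  have e4 : ρ (p * (v * v)) = P * (V * V) := by rw [map_mul, map_mul]
  rw [e3] at n3
  rw [e4] at n4
  have hsum : (1 + P + P * P) + (1 + V + V * V) + (1 + P * V + P * V * (P * V))
      + (1 + P * (V * V) + P * (V * V) * (P * (V * V)))
      = (1 + P + P * P) * (1 + V + V * V) + ((1 : R) + (1 + 1)) := by
    have hV4 : V * (V * (V * V)) = V := by rw [← mul_assoc V V V, hV3, mul_one]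
    simp only [mul_assoc, hc2, add_mul, mul_add, one_mul, mul_one, hV4]
    abel
  have : (((1 + P + P * P) * (1 + V + V * V) + ((1 : R) + (1 + 1))) * xo ρ e) = 0 := by
    rw [← hsum, add_mul, add_mul, add_mul, n1, n2, n3, n4, add_zero, add_zero, add_zero]
  rw [add_mul, mul_assoc, n2, mul_zero, zero_add, h.two, add_zero, one_mul] at this
  exact h.nz e he this

end Cfsg.Agent.Grp.TranspModule
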