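import Cfsg.Agent.Lib.Spor.ThreeTransPerp

/-! The rules satisfied by a class of 3-transpositions on an elementary abelian normal subgroup. -/

set_option autoImplicit false

namespace Cfsg.Agent.Grp.TranspModule

open Cfsg Cfsg.Agent.Spor

variable {Q : Type*} [Group Q] {R : Type*} [Ring R]

/-- The commutator map of an element. -/
def xo (ρ : Q →* R) (g : Q) : R := ρ g + 1

/-- The rules. -/
structure Rules (ρ : Q →* R) (D : Set Q) : Prop where
  cls : IsThreeTranspositionClass D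
  tau : ∀ a ∈ D, ∀ b ∈ D, (∀ e ∈ D, Commute a e ↔ Commute b e) → a = b
  two : ∀ r : R, r + r = 0
  nz : ∀ a ∈ D, xo ρ a ≠ 0
  orth : ∀ a ∈ D, ∀ b ∈ D, a ≠ b → Commute a b → xo ρ a * xo ρ b = 0
  loop : ∀ a ∈ D, ∀ b ∈ D, ¬ Commute a b → xo ρ a * xo ρ b * xo ρ a = xo ρ a

variable {ρ : Q →* R} {D : Set Q}

theorem Rules.mem (h : Rules ρ D) {a b : Q} (ha : a ∈ D) (hb : b ∈ D) : a * b * a ∈ D :=
  ThreeTrans.conj'_mem h.cls ha hb

theorem Rules.sq (h : Rules ρ D) {a : Q} (ha : a ∈ D) : a * a = 1 := ThreeTrans.mul_self h.cls.1 ha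

theorem Rules.eq_add_one (h : Rules ρ D) (g : Q) : ρ g = xo ρ g + 1 := by
  rw [xo, add_assoc, h.two, add_zero]

theorem Rules.neg (h : Rules ρ D) (r : R) : -r = r := (eq_neg_of_add_eq_zero_left (h.two r)).symm

theorem Rules.xo_sq (h : Rules ρ D) {a : Q} (ha : a ∈ D) : xo ρ a * xo ρ a = 0 := by
  have h1 : ρ a * ρ a = 1 := by rw [← map_mul, h.sq ha, map_one]
  calc xo ρ a * xo ρ a = (ρ a * ρ a + 1) + (ρ a + ρ a) := by simp only [xo]; noncomm_ring
    _ = 0 := by rw [h1, h.two, h.two, add_zero]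

theorem xo_conj (g a : Q) (hg : g * g = 1) : xo ρ (g * a * g) = ρ g * xo ρ a * ρ g := by
  rw [xo, xo, mul_add, add_mul, mul_one, map_mul, map_mul, ← map_mul ρ g g, hg, map_one]

/-- A member commuting with `b` but not with `a`. -/
theorem Rules.exists_sep [Finite Q] (h : Rules ρ D) {a b : Q} (ha : a ∈ D) (hb : b ∈ D) (hne : a ≠ b) :
    ∃ c ∈ D, ¬ Commute c a ∧ Commute c b := by
  by_contra hno
  push Not at hno
  have hsub : {c | c ∈ D ∧ Commute c b} ⊆ {c | c ∈ D ∧ Commute c a} :=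
    fun c hc => ⟨hc.1, by by_contra k; exact hno c hc.1 k hc.2⟩
  obtain ⟨g, hg⟩ := ThreeTrans.transitive h.cls hb ha
  have himg : (fun c => g * c * g⁻¹) '' {c | c ∈ D ∧ Commute c b} = {c | c ∈ D ∧ Commute c a} := by
    ext u
    constructor
    · rintro ⟨c, hc, rfl⟩
      exact ⟨ThreeTrans.conj_mem h.cls g hc.1, hg ▸ (ThreeTrans.commute_conj_iff g c b).mpr hc.2⟩
    · rintro ⟨hu, hua⟩
      refine ⟨g⁻¹ * u * g, ⟨by simpa using ThreeTrans.conj_mem h.cls g⁻¹ hu, ?_⟩, by group⟩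
      refine (ThreeTrans.commute_conj_iff g _ b).mp ?_
      rw [hg]
      simpa [mul_assoc] using hua
  have hcard := congrArg Set.ncard himg
  rw [Set.ncard_image_of_injective _ fun u v k => by simpa using k] at hcard
  have heq := Set.eq_of_subset_of_ncard_le hsub hcard.ge (Set.toFinite _)
  refine hne (h.tau a ha b hb fun e he => ?_)
  have := Set.ext_iff.mp heq e
  simp only [Set.mem_setOf_eq, he, true_and] at this
  exact Commute.symm_iff.trans (this.symm.trans Commute.symm_iff)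

/-- The ranges of two commuting members meet trivially. -/
theorem Rules.disj [Finite Q] (h : Rules ρ D) {a b : Q} (ha : a ∈ D) (hb : b ∈ D) (hne : a ≠ b) (hab : Commute a b)
    {r s : R} (he : xo ρ a * r = xo ρ b * s) : xo ρ a * r = 0 := by
  obtain ⟨c, hc, hca, hcb⟩ := h.exists_sep ha hb hne
  have hcb' : c ≠ b := fun k => hca (k ▸ hab.symm)
  calc xo ρ a * r = xo ρ a * xo ρ c * xo ρ a * r := by rw [h.loop a ha c hc fun k => hca k.symm]
    _ = xo ρ a * (xo ρ c * xo ρ b) * s := by simp only [mul_assoc, he]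
    _ = 0 := by rw [h.orth c hc b hb hcb' hcb, mul_zero, zero_mul]

end Cfsg.Agent.Grp.TranspModule
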