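import Cfsg.Agent.Lib.Grp.TranspModule.Action
import Cfsg.Agent.Lib.Grp.TranspModule.Fibre
import Cfsg.Agent.Lib.Grp.Components

/-! Uniqueness of the class of 3-transpositions over an elementary abelian radical. -/

set_option autoImplicit false
set_option linter.unusedSectionVars false

namespace Cfsg.Agent.Grp.TranspModule

open Cfsg Cfsg.Agent.Spor
open Cfsg.Agent.Spor.ThreeTrans (braid)
open scoped IsMulCommutative

variable {G : Type*} [Group G] [Finite G] {V : Subgroup G} [V.Normal] [IsMulCommutative V] {D E : Set G}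

theorem eq_one_of_central (hV : Rad V) (hD : IsThreeTranspositionClass D) {z : G ⧸ V} (hz : z * z = 1)
    (hall : ∀ d ∈ (QuotientGroup.mk : G → G ⧸ V) '' D, Commute z d) : z = 1 := by
  have hcl := (cls_image hV hD).2.2
  have hc : z ∈ Subgroup.center (G ⧸ V) := by
    refine Subgroup.mem_center_iff.mpr fun g => ?_
    have hg : g ∈ Subgroup.closure ((QuotientGroup.mk : G → G ⧸ V) '' D) := hcl ▸ Subgroup.mem_top g
    induction hg using Subgroup.closure_induction with
    | mem x hx => exact (hall x hx).symm.eq
    | one => simp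
    | mul x y _ _ hx hy => rw [mul_assoc, hy, ← mul_assoc, hx, mul_assoc]
    | inv x _ hx => exact ((show Commute x z from hx).inv_left).eq
  haveI : (Subgroup.zpowers z).Normal :=
    ⟨fun n hn g => by
      have := Subgroup.mem_center_iff.mp (Subgroup.zpowers_le.mpr hc hn) g
      rwa [this, mul_inv_cancel_right]⟩
  have hp : IsPGroup 2 (Subgroup.zpowers z) := by
    rintro ⟨x, k, rfl⟩
    refine ⟨1, Subtype.ext ?_⟩
    show (z ^ k) ^ 2 ^ 1 = 1
    rw [pow_one, ← zpow_natCast, ← zpow_mul, mul_comm, zpow_mul, zpow_natCast, pow_two, hz, one_zpow]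
  have hle : Subgroup.zpowers z ≤ pCore 2 (G ⧸ V) :=
    le_sSup (show Subgroup.zpowers z ∈ {N : Subgroup (G ⧸ V) | N.Normal ∧ IsPGroup 2 N} from ⟨inferInstance, hp⟩)
  rw [core_quot hV, Subgroup.zpowers_le, Subgroup.mem_bot] at hle
  exact hle

theorem unique (hV : Rad V) (hD : IsThreeTranspositionClass D) (hE : IsThreeTranspositionClass E) : E = D := by
  set π : G → G ⧸ V := QuotientGroup.mk with hπ
  have hrD := rules hV hD
  have hrE := rules hV hE
  have himg : π '' E = π '' D :=
    classes_eq hrD hrE (rho_injective hV) fun z hz hall => eq_one_of_central hV hD hz hall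
  let L : G ⧸ V → Additive V → Prop :=
    fun q u => ∃ d ∈ D, π d = q ∧ ((u.toMul : V) : G) * d ∈ E
  have conjV : ∀ (g : G) {v : G}, v ∈ V → g * v * g⁻¹ ∈ V :=
    fun g v hv => Subgroup.Normal.conj_mem inferInstance v hv g
  have hL : Lifts (rho hV) (π '' D) L := by
    refine ⟨hrD, fun x => two x hV, ?_, ?_, ?_, ?_, ?_⟩
    · rintro _ ⟨d, hd, rfl⟩
      obtain ⟨e, he, hed⟩ : π d ∈ π '' E := himg ▸ ⟨d, hd, rfl⟩
      have hu : e * d⁻¹ ∈ V := by
        rw [← QuotientGroup.eq_one_iff, QuotientGroup.mk_mul, QuotientGroup.mk_inv]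
        exact mul_inv_eq_one.mpr hed
      refine ⟨Additive.ofMul ⟨_, hu⟩, d, hd, rfl, ?_⟩
      show e * d⁻¹ * d ∈ E
      rwa [inv_mul_cancel_right]
    · rintro _ ⟨d₀, -, rfl⟩ x ⟨d, hd, hdq, he⟩
      rw [← hdq]
      ext
      set u : G := ((x.toMul : V) : G)
      show d * u * d⁻¹ * u = (1 : G)
      rw [ThreeTrans.inv_eq hD.1 hd]
      have h := ThreeTrans.mul_self hE.1 he
      have hc : Commute (d * u * d) u := by
        have := conjV d x.toMul.2
        rw [ThreeTrans.inv_eq hD.1 hd] at this
        exact hV.ab _ this u x.toMul.2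
      rw [hc.eq]
      simpa [mul_assoc] using h
    · rintro _ ⟨d₁, -, rfl⟩ _ ⟨a₁, -, rfl⟩ - hc x y ⟨d, hd, hdq, he⟩ ⟨a, ha, haq, hf⟩
      rw [← hdq, ← haq] at hc ⊢
      have hcda := commute_of_image hV hD hd ha hc
      set u : G := ((x.toMul : V) : G) with hu
      set w : G := ((y.toMul : V) : G) with hw
      have hcef := commute_of_image hV hE he hf (by
        rw [QuotientGroup.mk_mul, QuotientGroup.mk_mul, (QuotientGroup.eq_one_iff u).mpr x.toMul.2,
          (QuotientGroup.eq_one_iff w).mpr y.toMul.2, one_mul, one_mul]; exact hc)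
      have e1 : u * (d * w * d⁻¹) = w * (a * u * a⁻¹) := by
        apply mul_right_cancel (b := d * a)
        calc u * (d * w * d⁻¹) * (d * a) = (u * d) * (w * a) := by simp only [mul_assoc, inv_mul_cancel_left]
          _ = (w * a) * (u * d) := hcef.eq
          _ = w * (a * u * a⁻¹) * (a * d) := by simp only [mul_assoc, inv_mul_cancel_left]
          _ = w * (a * u * a⁻¹) * (d * a) := by rw [hcda.eq]
      have e2 : x + rho hV (π d) y = y + rho hV (π a) x := by
        apply Additive.toMul.injective
        exact Subtype.ext e1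
      show rho hV (π a) x + x = rho hV (π d) y + y
      calc rho hV (π a) x + x = (y + rho hV (π a) x) + (x + y) := by
            rw [show y + rho hV (π a) x + (x + y) = rho hV (π a) x + x + (y + y) by abel, two y hV, add_zero]
        _ = rho hV (π d) y + y := by
            rw [← e2, show x + rho hV (π d) y + (x + y) = rho hV (π d) y + y + (x + x) by abel, two x hV, add_zero]
    · rintro _ ⟨d₁, -, rfl⟩ _ ⟨a₁, -, rfl⟩ hnc x y ⟨d, hd, hdq, he⟩ ⟨a, ha, haq, hf⟩
      rw [← hdq, ← haq] at hnc ⊢
      set u : G := ((x.toMul : V) : G) with hu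
      set w : G := ((y.toMul : V) : G) with hw
      have hnda : ¬ Commute d a := fun k => hnc (k.map (QuotientGroup.mk' V))
      have hnef : ¬ Commute (u * d) (w * a) := fun k => hnc (by
        have h := k.map (QuotientGroup.mk' V)
        simpa [(QuotientGroup.eq_one_iff u).mpr x.toMul.2, (QuotientGroup.eq_one_iff w).mpr y.toMul.2] using h)
      have b1 := braid hD.1 hd ha hnda
      have b2 := braid hE.1 he hf hnef
      have e1 : u * (d * w * d⁻¹) * (d * (a * u * a⁻¹) * d⁻¹)
          = w * (a * u * a⁻¹) * (a * (d * w * d⁻¹) * a⁻¹) := by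
        apply mul_right_cancel (b := d * a * d)
        calc _ = (u * d) * (w * a) * (u * d) := by simp only [mul_assoc, inv_mul_cancel_left]
          _ = (w * a) * (u * d) * (w * a) := b2
          _ = w * (a * u * a⁻¹) * (a * (d * w * d⁻¹) * a⁻¹) * (a * d * a) := by
              simp only [mul_assoc, inv_mul_cancel_left]
          _ = _ := by rw [b1]
      have e2 : x + rho hV (π d) y + rho hV (π d) (rho hV (π a) x)
          = y + rho hV (π a) x + rho hV (π a) (rho hV (π d) y) := by
        apply Additive.toMul.injective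
        exact Subtype.ext e1
      have hdu : rho hV (π d) x = x := by
        ext
        show d * u * d⁻¹ = u
        have h := ThreeTrans.mul_self hE.1 he
        have hd2 := ThreeTrans.mul_self hD.1 hd
        rw [ThreeTrans.inv_eq hD.1 hd]
        calc d * u * d = u * (u * d * (u * d)) := by
              simp only [mul_assoc]; rw [← mul_assoc u u, hV.sq u x.toMul.2, one_mul]
          _ = u := by rw [h, mul_one]
      have haw : rho hV (π a) y = y := by
        ext
        show a * w * a⁻¹ = w
        have h := ThreeTrans.mul_self hE.1 hf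
        rw [ThreeTrans.inv_eq hD.1 ha]
        calc a * w * a = w * (w * a * (w * a)) := by
              simp only [mul_assoc]; rw [← mul_assoc w w, hV.sq w y.toMul.2, one_mul]
          _ = w := by rw [h, mul_one]
      show x + (rho hV (π d) (rho hV (π a) x + x) + (rho hV (π a) x + x))
        = y + (rho hV (π a) (rho hV (π d) y + y) + (rho hV (π d) y + y))
      rw [map_add, map_add, hdu, haw]
      calc x + (rho hV (π d) (rho hV (π a) x) + x + (rho hV (π a) x + x))
          = (x + rho hV (π d) y + rho hV (π d) (rho hV (π a) x)) + (rho hV (π a) x + rho hV (π d) y)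
            + (x + x) + (rho hV (π d) y + rho hV (π d) y) + (rho hV (π d) y + rho hV (π d) y) := by
            simp only [two _ hV, add_zero]
            rw [show x + rho hV (π d) y + rho hV (π d) (rho hV (π a) x) + (rho hV (π a) x + rho hV (π d) y)
              = x + (rho hV (π d) (rho hV (π a) x) + rho hV (π a) x) + (rho hV (π d) y + rho hV (π d) y) by abel,
              two _ hV, add_zero]
            rw [show x + (rho hV (π d) (rho hV (π a) x) + x + (rho hV (π a) x + x))
              = x + (rho hV (π d) (rho hV (π a) x) + rho hV (π a) x) + (x + x) by abel, two x hV, add_zero]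
        _ = _ := by
            simp only [two _ hV, add_zero]
            rw [e2, show y + rho hV (π a) x + rho hV (π a) (rho hV (π d) y) + (rho hV (π a) x + rho hV (π d) y)
              = y + (rho hV (π a) (rho hV (π d) y) + rho hV (π d) y) + (rho hV (π a) x + rho hV (π a) x) by abel,
              two _ hV, add_zero]
            rw [show y + (rho hV (π a) (rho hV (π d) y) + y + (rho hV (π d) y + y))
              = y + (rho hV (π a) (rho hV (π d) y) + rho hV (π d) y) + (y + y) by abel, two y hV, add_zero]
    · intro p hp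
      have hc : ((p.toMul : V) : G) ∈ Subgroup.center G := by
        refine Subgroup.mem_center_iff.mpr fun g => ?_
        have hg : g ∈ Subgroup.closure D := hD.2.2 ▸ Subgroup.mem_top g
        induction hg using Subgroup.closure_induction with
        | mem x hx =>
          have h0 : x * (p.toMul : V) * x⁻¹ * (p.toMul : V) = (1 : G) :=
            congrArg (fun z : Additive V => ((z.toMul : V) : G)) (hp _ ⟨x, hx, rfl⟩)
          have h1 := eq_inv_of_mul_eq_one_left h0
          rw [inv_eq_of_mul_eq_one_right (hV.sq _ p.toMul.2), mul_inv_eq_iff_eq_mul] at h1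
          exact h1
        | one => simp
        | mul x y _ _ hx hy => rw [mul_assoc, hy, ← mul_assoc, hx, mul_assoc]
        | inv x _ hx => exact ((show Commute x _ from hx).inv_left).eq
      rw [hV.center, Subgroup.mem_bot] at hc
      exact ext_val hc
  have hsub : E ⊆ D := by
    intro e he
    obtain ⟨d, hd, hde⟩ : π e ∈ π '' D := himg ▸ ⟨e, he, rfl⟩
    have hu : e * d⁻¹ ∈ V := by
      rw [← QuotientGroup.eq_one_iff, QuotientGroup.mk_mul, QuotientGroup.mk_inv]
      exact mul_inv_eq_one.mpr hde.symm
    have hex : ∃ a ∈ π '' D, ¬ Commute (π d) a := by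
      by_contra k
      push Not at k
      have hsq : π d * π d = 1 := hrD.sq ⟨d, hd, rfl⟩
      exact ThreeTrans.ne_one hrD.cls.1 ⟨d, hd, rfl⟩ (eq_one_of_central hV hD hsq k)
    obtain ⟨s, hs⟩ := hL.main ⟨d, hd, rfl⟩ hex (v := Additive.ofMul ⟨_, hu⟩)
      ⟨d, hd, rfl, by show e * d⁻¹ * d ∈ E; rwa [inv_mul_cancel_right]⟩
    have hval : e * d⁻¹ = d * (s.toMul : V) * d⁻¹ * (s.toMul : V) :=
      congrArg (fun z : Additive V => ((z.toMul : V) : G)) hs
    have := shift_eq hD hV hd (w := ((s.toMul : V) : G)) s.toMul.2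
    rwa [← hval, inv_mul_cancel_right] at this
  obtain ⟨e₀, he₀, hcE⟩ := hE.2.1
  refine Set.Subset.antisymm hsub fun x hx => ?_
  obtain ⟨g, rfl⟩ := ThreeTrans.transitive hD (hsub he₀) hx
  exact ThreeTrans.conj_mem hE g he₀

end Cfsg.Agent.Grp.TranspModule
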